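import Mathlib

namespace Groth.Agent.PiLoc

universe u

variable {ι : Type u} {R : ι → Type u} [∀ i, CommRing (R i)]

open Classical in
/-- The idempotent of a set of indices. -/
noncomputable def ind (s : Set ι) : ∀ i, R i := fun i => if i ∈ s then 1 else 0

theorem ind_mul_eq_zero {s : Set ι} {a : ∀ i, R i} (h : ∀ i ∈ s, a i = 0) : ind s * a = 0 := by
  funext i
  by_cases hi : i ∈ s
  · simp [ind, hi, h i hi]
  · simp [ind, hi]

theorem ind_or (P : Ideal (∀ i, R i)) [hP : P.IsPrime] (s : Set ι) :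
    (ind s : ∀ i, R i) ∉ P ∨ (ind sᶜ : ∀ i, R i) ∉ P := by
  by_contra h
  push Not at h
  apply hP.ne_top
  rw [Ideal.eq_top_iff_one]
  have : (1 : ∀ i, R i) = ind s + ind sᶜ := by
    funext i
    by_cases hi : i ∈ s <;> simp [ind, hi]
  exact this ▸ P.add_mem h.1 h.2

variable (P : Ideal (∀ i, R i)) [P.IsPrime]

set_option quotPrecheck false
local notation "L" => Localization.AtPrime P
local notation "ψ" => algebraMap ((i : ι) → R i) (Localization.AtPrime P)

theorem eq_zero {s : Set ι} (hs : (ind s : ∀ i, R i) ∉ P) {a : ∀ i, R i} (h : ∀ i ∈ s, a i = 0) :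
    ψ a = 0 := by
  rw [IsLocalization.map_eq_zero_iff P.primeCompl]
  exact ⟨⟨ind s, hs⟩, ind_mul_eq_zero h⟩

theorem exists_rep (x : L) : ∃ (a : ∀ i, R i) (u : Lˣ), x = ψ a * u := by
  obtain ⟨a, s, rfl⟩ := IsLocalization.exists_mk'_eq P.primeCompl x
  refine ⟨a, (IsLocalization.map_units L s).unit⁻¹, ?_⟩
  rw [Units.eq_mul_inv_iff_mul_eq, IsUnit.unit_spec, IsLocalization.mk'_spec]

theorem isDomain [∀ i, IsDomain (R i)] : IsDomain L := by
  have : Nontrivial L := inferInstance
  have : NoZeroDivisors L := by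
    refine ⟨fun {x y} h => ?_⟩
    obtain ⟨a, u, rfl⟩ := exists_rep P x
    obtain ⟨b, v, rfl⟩ := exists_rep P y
    have hab : ψ (a * b) = 0 := by
      have hu : IsUnit ((u : L) * v) := u.isUnit.mul v.isUnit
      rw [← hu.mul_left_eq_zero, map_mul, ← h]
      ring
    obtain ⟨⟨t, ht⟩, htab⟩ := (IsLocalization.map_eq_zero_iff P.primeCompl L _).1 hab
    have h' : ∀ i, t i * a i = 0 ∨ b i = 0 := fun i => by
      rw [← mul_eq_zero]; simpa [mul_assoc] using congrFun htab i
    rcases ind_or P {i | t i * a i = 0} with hs | hs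
    · refine Or.inl ?_
      have h1 := eq_zero P hs (a := t * a) fun i hi => hi
      rw [map_mul, ((IsLocalization.map_units L (⟨t, ht⟩ : P.primeCompl))).mul_right_eq_zero] at h1
      rw [h1, zero_mul]
    · refine Or.inr ?_
      rw [eq_zero P hs (a := b) fun i hi => (h' i).resolve_left hi, zero_mul]
  exact NoZeroDivisors.to_isDomain L

theorem preValuationRing [∀ i, IsDomain (R i)] [∀ i, ValuationRing (R i)] : PreValuationRing L := by
  have key : ∀ (a b : ∀ i, R i) (s : Set ι), (ind s : ∀ i, R i) ∉ P → (∀ i ∈ s, a i ∣ b i) → ψ a ∣ ψ b := by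
    intro a b s hs h
    have h' : a ∣ ind s * b := by
      classical
      refine ⟨fun i => if hi : i ∈ s then (h i hi).choose else 0, funext fun i => ?_⟩
      by_cases hi : i ∈ s
      · simpa [ind, hi] using (h i hi).choose_spec
      · simp [ind, hi]
    have := map_dvd ψ h'
    rw [map_mul] at this
    exact (IsLocalization.map_units L (⟨ind s, hs⟩ : P.primeCompl)).dvd_mul_left.1 this
  have total : ∀ x y : L, x ∣ y ∨ y ∣ x := by
    intro x y
    obtain ⟨a, u, rfl⟩ := exists_rep P x
    obtain ⟨b, v, rfl⟩ := exists_rep P y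
    rcases ind_or P {i | a i ∣ b i} with hs | hs
    · exact Or.inl (mul_dvd_mul_right (key a b _ hs fun i hi => hi) _ |>.trans (by simp))
    · exact Or.inr (mul_dvd_mul_right (key b a _ hs fun i hi => ((ValuationRing.dvd_total (a i) (b i)).resolve_left hi)) _ |>.trans (by simp))
  refine ⟨fun x y => ?_⟩
  rcases total x y with ⟨c, hc⟩ | ⟨c, hc⟩
  · exact ⟨c, Or.inl hc.symm⟩
  · exact ⟨c, Or.inr hc.symm⟩

set_option synthInstance.maxHeartbeats 200000 in
set_option maxHeartbeats 1000000 in
theorem isIntegrallyClosed [∀ i, IsDomain (R i)] [∀ i, IsIntegrallyClosed (R i)] :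
    IsIntegrallyClosed L := by
  have : IsDomain L := isDomain P
  rw [isIntegrallyClosed_iff (FractionRing L)]
  intro z hz
  obtain ⟨x, y, hy, rfl⟩ := IsFractionRing.div_surjective L z
  obtain ⟨b, v, rfl⟩ := exists_rep P y
  have hb0 : ψ b ≠ 0 := by
    intro h; exact nonZeroDivisors.ne_zero hy (by rw [h, zero_mul])
  let φ := algebraMap L (FractionRing L)
  have hφb : φ (ψ b) ≠ 0 := by simpa [φ] using hb0
  obtain ⟨a, u, hau⟩ := exists_rep P (x * ↑v⁻¹)
  have hz' : φ x / φ (ψ b * v) = φ (ψ a) * φ u / φ (ψ b) := by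
    rw [← map_mul φ (ψ a), ← hau, map_mul, map_mul, div_eq_div_iff _ hφb]
    · calc φ x * φ (ψ b) = φ x * φ (ψ b) * φ (↑v⁻¹ * ↑v) := by simp
        _ = _ := by rw [map_mul]; ring
    · rw [← map_mul]
      simp [φ, hb0]
  rw [hz'] at hz ⊢
  have hw : IsIntegral L (φ (ψ a) / φ (ψ b)) := by
    have := hz.mul (isIntegral_algebraMap (R := L) (A := FractionRing L) (x := (↑u⁻¹ : L)))
    rwa [show φ (ψ a) * φ u / φ (ψ b) * algebraMap L (FractionRing L) ↑u⁻¹ = φ (ψ a) / φ (ψ b) from ?_] at this
    rw [div_mul_eq_mul_div, mul_assoc, ← map_mul, Units.mul_inv, map_one, mul_one]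
  obtain ⟨m, hm⟩ := IsIntegral.exists_multiple_integral_of_isLocalization P.primeCompl _ hw
  have hm' : IsIntegral (∀ i, R i) (φ (ψ ((m : ∀ i, R i) * a)) / φ (ψ b)) := by
    have e : m • (φ (ψ a) / φ (ψ b)) = φ (ψ ((m : ∀ i, R i) * a)) / φ (ψ b) := by
      rw [map_mul, map_mul, Submonoid.smul_def, Algebra.smul_def, IsScalarTower.algebraMap_apply _ L (FractionRing L)]
      ring
    exact e ▸ hm
  obtain ⟨p, hpm, hp⟩ := hm'
  set A : ∀ i, R i := (m : ∀ i, R i) * a
  let g := φ.comp ψ
  have hg : g = algebraMap (∀ i, R i) (FractionRing L) := (IsScalarTower.algebraMap_eq _ _ _).symm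
  -- clear denominators
  have h0 : g ((p.scaleRoots b).eval A) = 0 := by
    rw [← Polynomial.eval₂_at_apply]
    have := Polynomial.scaleRoots_eval₂_mul g (p := p) (s := b) (r := φ (ψ A) / φ (ψ b))
    rw [show g b = φ (ψ b) from rfl, mul_div_cancel₀ _ hφb] at this
    rw [show g A = φ (ψ A) from rfl, this]
    conv_lhs => rw [hg, hp]
    rw [mul_zero]
  have h1 : ψ ((p.scaleRoots b).eval A) = 0 := IsFractionRing.injective L (FractionRing L) (by simpa [g, φ] using h0)
  obtain ⟨⟨t, ht⟩, htab⟩ := (IsLocalization.map_eq_zero_iff P.primeCompl L _).1 h1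
  let s : Set ι := {i | b i ≠ 0 ∧ t i ≠ 0}
  rcases ind_or P s with hs | hs
  · classical
    have hdiv : ∀ i ∈ s, b i ∣ A i := by
      rintro i ⟨hbi, hti⟩
      have h2 : ((p.scaleRoots b).eval A) i = 0 := by simpa [hti] using congrFun htab i
      have h3 : ((p.map (Pi.evalRingHom R i)).scaleRoots (b i)).eval (A i) = 0 := by
        have e := Polynomial.map_scaleRoots p b (Pi.evalRingHom R i) (by simp [hpm.leadingCoeff])
        rw [show b i = Pi.evalRingHom R i b from rfl, ← e, show A i = Pi.evalRingHom R i A from rfl,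
          Polynomial.eval_map, Polynomial.eval₂_at_apply]
        exact h2
      obtain ⟨c, hc⟩ : ∃ c : R i, algebraMap (R i) (FractionRing (R i)) c =
          algebraMap (R i) (FractionRing (R i)) (A i) / algebraMap (R i) (FractionRing (R i)) (b i) := by
        refine IsIntegrallyClosed.isIntegral_iff.1 ⟨p.map (Pi.evalRingHom R i), hpm.map _, ?_⟩
        have hb' : algebraMap (R i) (FractionRing (R i)) (b i) ≠ 0 := by simpa using hbi
        have := Polynomial.scaleRoots_eval₂_mul (algebraMap (R i) (FractionRing (R i))) (p := p.map (Pi.evalRingHom R i)) (s := b i)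
          (r := algebraMap (R i) (FractionRing (R i)) (A i) / algebraMap (R i) (FractionRing (R i)) (b i))
        rw [mul_div_cancel₀ _ hb', Polynomial.eval₂_at_apply, h3, map_zero] at this
        exact ((mul_eq_zero.1 this.symm).resolve_left (pow_ne_zero _ hb'))
      refine ⟨c, IsFractionRing.injective (R i) (FractionRing (R i)) ?_⟩
      have hb' : algebraMap (R i) (FractionRing (R i)) (b i) ≠ 0 := by simpa using hbi
      rw [map_mul, hc, mul_div_cancel₀ _ hb']
    let q : ∀ i, R i := fun i => if hi : i ∈ s then (hdiv i hi).choose else 0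
    have hq : b * q = ind s * A := by
      funext i
      by_cases hi : i ∈ s
      · simpa [q, ind, hi] using (hdiv i hi).choose_spec.symm
      · simp [q, ind, hi]
    have hu1 : IsUnit (ψ (ind s) * ψ (m : ∀ i, R i)) :=
      (IsLocalization.map_units L (⟨ind s, hs⟩ : P.primeCompl)).mul (IsLocalization.map_units L m)
    refine ⟨↑hu1.unit⁻¹ * ψ q * u, ?_⟩
    rw [← map_mul φ, eq_div_iff hφb, ← map_mul]
    congr 1
    calc _ = ↑hu1.unit⁻¹ * ψ (b * q) * u := by rw [map_mul]; ring
      _ = ↑hu1.unit⁻¹ * (ψ (ind s) * ψ (m : ∀ i, R i)) * (ψ a * u) := by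
        rw [hq, map_mul, map_mul]; ring
      _ = _ := by rw [IsUnit.val_inv_mul, one_mul]
  · exfalso
    apply hb0
    have h2 : ψ (t * b) = 0 := eq_zero P hs fun i hi => by
      simp only [s, Set.mem_compl_iff, Set.mem_setOf_eq, not_and_or, ne_eq, not_not] at hi
      rcases hi with h | h <;> simp [h]
    rw [map_mul] at h2
    exact ((IsLocalization.map_units L (⟨t, ht⟩ : P.primeCompl)).mul_right_eq_zero).1 h2

end Groth.Agent.PiLoc
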